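import Groth.Agent.H18.UC.Span
import Groth.Agent.H18.STL.TwistGG
import Groth.Agent.H18.STL.AmplePow
import Groth.Agent.H67.BasisLocal

/-!
# `X_s` is affine for `L` ample on `X` universally closed over an affine base (helper18)
-/

set_option autoImplicit false
universe u

open CategoryTheory CategoryTheory.Limits AlgebraicGeometry TopologicalSpace Opposite

namespace Groth.Agent.H18.UC

open Groth.Agent.H18 Groth.Agent.H18.PUP Groth.Agent.H18.STL

variable {X : Scheme.{u}}

section ratio

variable {L : X.Modules} (hL : PicF.IsInvertible L) (s : Coh.structureModule X ⟶ L) (m : ℕ)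
  (t : Coh.structureModule X ⟶ CohB1.tensorPow L m)

/-- the function `t / s^m` on `X_s` -/
noncomputable def ratioB : Γ(X, CohB1.genLocus L s) :=
  (isBasisOn_pow_genLocus hL s m).coord le_rfl (SecTwist.val t (CohB1.genLocus L s))

/-- the function `s^m / t` on `X_t` -/
noncomputable def ratioC : Γ(X, CohB1.genLocus (CohB1.tensorPow L m) t) :=
  (Groth.Agent.H67.BasisLocal.isBasisOn_genLocus (isInvertible_tensorPow hL m) t).coord le_rfl
    (SecTwist.val (SecTwist.powHom s m) (CohB1.genLocus (CohB1.tensorPow L m) t))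

theorem val_eq_ratioB_smul :
    SecTwist.val t (CohB1.genLocus L s) =
      ratioB hL s m t • SecTwist.pow s m (CohB1.genLocus L s) := by
  have := (isBasisOn_pow_genLocus hL s m).coord_smul le_rfl (SecTwist.val t (CohB1.genLocus L s))
  rw [mres_self] at this
  exact this.symm

theorem val_eq_ratioC_smul :
    SecTwist.val (SecTwist.powHom s m) (CohB1.genLocus (CohB1.tensorPow L m) t) =
      ratioC hL s m t • SecTwist.val t (CohB1.genLocus (CohB1.tensorPow L m) t) := by
  have := (Groth.Agent.H67.BasisLocal.isBasisOn_genLocus (isInvertible_tensorPow hL m) t).coord_smul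
    le_rfl (SecTwist.val (SecTwist.powHom s m) (CohB1.genLocus (CohB1.tensorPow L m) t))
  rw [mres_self] at this
  exact this.symm

theorem genLocus_inf_eq_basicOpen_ratioB :
    CohB1.genLocus (CohB1.tensorPow L m) t ⊓ CohB1.genLocus L s = X.basicOpen (ratioB hL s m t) :=
  genLocus_inf_eq_basicOpen t (isBasisOn_pow_genLocus hL s m) _ (val_eq_ratioB_smul hL s m t)

theorem ratioB_mul_ratioC {O : X.Opens} (h1 : O ≤ CohB1.genLocus L s)
    (h2 : O ≤ CohB1.genLocus (CohB1.tensorPow L m) t) :
    rres X h1 (ratioB hL s m t) * rres X h2 (ratioC hL s m t) = 1 := by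
  have hb := (Groth.Agent.H67.BasisLocal.isBasisOn_genLocus (isInvertible_tensorPow hL m) t).mono h2
  have a1 : mres (CohB1.tensorPow L m) h1 (SecTwist.val t (CohB1.genLocus L s)) =
      (SecTwist.val t O : Γ(CohB1.tensorPow L m, O)) := mres_val t h1
  have a2 : mres (CohB1.tensorPow L m) h1 (SecTwist.pow s m (CohB1.genLocus L s)) =
      (SecTwist.pow s m O : Γ(CohB1.tensorPow L m, O)) := SecTwist.map_pow s m (homOfLE h1)
  have a3 : mres (CohB1.tensorPow L m) h2
      (SecTwist.val (SecTwist.powHom s m) (CohB1.genLocus (CohB1.tensorPow L m) t)) =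
      (SecTwist.pow s m O : Γ(CohB1.tensorPow L m, O)) :=
    (mres_val (SecTwist.powHom s m) h2).trans (SecTwist.val_powHom s m O)
  have a4 : mres (CohB1.tensorPow L m) h2
      (SecTwist.val t (CohB1.genLocus (CohB1.tensorPow L m) t)) =
      (SecTwist.val t O : Γ(CohB1.tensorPow L m, O)) := mres_val t h2
  have e1 : (SecTwist.val t O : Γ(CohB1.tensorPow L m, O)) =
      rres X h1 (ratioB hL s m t) • (SecTwist.pow s m O : Γ(CohB1.tensorPow L m, O)) :=
    a1.symm.trans ((congrArg (mres (CohB1.tensorPow L m) h1) (val_eq_ratioB_smul hL s m t)).trans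
      ((mres_smul _ h1 _ _).trans
        (congrArg (fun z : Γ(CohB1.tensorPow L m, O) => rres X h1 (ratioB hL s m t) • z) a2)))
  have e2 : (SecTwist.pow s m O : Γ(CohB1.tensorPow L m, O)) =
      rres X h2 (ratioC hL s m t) • (SecTwist.val t O : Γ(CohB1.tensorPow L m, O)) :=
    a3.symm.trans ((congrArg (mres (CohB1.tensorPow L m) h2) (val_eq_ratioC_smul hL s m t)).trans
      ((mres_smul _ h2 _ _).trans
        (congrArg (fun z : Γ(CohB1.tensorPow L m, O) => rres X h2 (ratioC hL s m t) • z) a4)))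
  have e3 : (rres X h1 (ratioB hL s m t) * rres X h2 (ratioC hL s m t)) •
      (SecTwist.val t O : Γ(CohB1.tensorPow L m, O)) =
      (1 : Γ(X, O)) • (SecTwist.val t O : Γ(CohB1.tensorPow L m, O)) := by
    rw [mul_smul, ← e2, ← e1, one_smul]
  have hinj := (hb O le_rfl).1
  have e4 : mres (CohB1.tensorPow L m) (le_refl O)
      (mres (CohB1.tensorPow L m) h2 (SecTwist.val t (CohB1.genLocus (CohB1.tensorPow L m) t))) =
      (SecTwist.val t O : Γ(CohB1.tensorPow L m, O)) := by
    rw [mres_self]; exact a4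
  apply hinj
  change _ • mres _ _ (mres _ _ _) = _ • mres _ _ (mres _ _ _)
  rw [e4]
  exact e3

end ratio

end Groth.Agent.H18.UC

namespace Groth.Agent.H18.UC

open Groth.Agent.H18 Groth.Agent.H18.PUP Groth.Agent.H18.STL

/-- Let `f : X ⟶ S` be universally closed with `S` affine and `L` an ample invertible module on `X`. Then `X_s` is
affine for every global section `s` of `L`. -/
theorem isAffineOpen_genLocus_of_universallyClosed {X S : Scheme.{u}} [IsAffine S] (f : X ⟶ S)
    [UniversallyClosed f] {L : X.Modules} (hA : CohB1.IsAmple L) (s : Coh.structureModule X ⟶ L) :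
    IsAffineOpen (CohB1.genLocus L s) := by
  obtain ⟨hL, hcpt, hcov⟩ := hA
  haveI := hcpt
  choose n t hxt haff using hcov
  set G := CohB1.genLocus L s with hG
  haveI : IsAffineHom G.ι := Groth.Agent.H67.GenLocusAffine.isAffineHom_genLocus _ hL s
  haveI : CompactSpace (G : Scheme.{u}) := QuasiCompact.compactSpace_of_compactSpace G.ι
  let U : X → X.Opens := fun x => CohB1.genLocus _ (t x)
  let b' : ∀ _ : X, Γ(X, G) := fun x => ratioB hL s (n x + 1) (t x)
  let c : ∀ x, Γ(X, U x) := fun x => ratioC hL s (n x + 1) (t x)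
  let b : X → Γ((G : Scheme.{u}), ⊤) := fun x => G.topIso.inv (b' x)
  have hbc : ∀ x, G.ι.app (U x) (c x) *
      (G : Scheme.{u}).presheaf.map (homOfLE (le_top : G.ι ⁻¹ᵁ U x ≤ ⊤)).op (b x) = 1 := by
    intro x
    have h1 : G.ι ''ᵁ (G.ι ⁻¹ᵁ U x) ≤ G := G.ι_image_le _
    have h2 : G.ι ''ᵁ (G.ι ⁻¹ᵁ U x) ≤ U x := by
      rintro _ ⟨y, hy, rfl⟩
      exact hy
    have key := ratioB_mul_ratioC hL s (n x + 1) (t x) h1 h2
    have e1 : G.ι.app (U x) (c x) = rres X h2 (c x) := rfl
    have e2 : (G : Scheme.{u}).presheaf.map (homOfLE (le_top : G.ι ⁻¹ᵁ U x ≤ ⊤)).op (b x) =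
        rres X h1 (b' x) := by
      change (X.presheaf.map _ ≫ X.presheaf.map _) (b' x) = _
      rw [← Functor.map_comp]
      rfl
    rw [e1, e2, mul_comm]
    exact key
  have hspan := span_eq_top_of_universallyClosed f G.ι U (fun x => ⟨x, hxt x⟩) b c hbc
  refine isAffineOpen_of_isAffineOpen_basicOpen G (Set.range b') ?_ ?_
  · have h1 : Ideal.map G.topIso.inv.hom (Ideal.span (Set.range b')) = Ideal.span (Set.range b) := by
      rw [Ideal.map_span, ← Set.range_comp]
      rfl
    rw [hspan] at h1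
    have h2 := congrArg (Ideal.map G.topIso.hom.hom) h1
    rw [Ideal.map_map, Ideal.map_top] at h2
    have h3 : G.topIso.hom.hom.comp G.topIso.inv.hom = RingHom.id _ := by
      ext a
      exact Iso.inv_hom_id_apply (C := CommRingCat) G.topIso a
    rw [h3, Ideal.map_id] at h2
    exact h2
  · rintro _ ⟨x, rfl⟩
    change IsAffineOpen (X.basicOpen (ratioB hL s (n x + 1) (t x)))
    rw [← genLocus_inf_eq_basicOpen_ratioB hL s (n x + 1) (t x), inf_comm]
    exact isAffineOpen_genLocus_inf hL s (haff x)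

end Groth.Agent.H18.UC
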