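import Mathlib.AlgebraicGeometry.Morphisms.UniversallyClosed
import Mathlib.AlgebraicGeometry.Morphisms.ClosedImmersion
import Mathlib.AlgebraicGeometry.Morphisms.Affine

/-!
# A unit-ideal criterion from universal closedness (helper18)

Let `f : X ⟶ S` be universally closed with `S` affine, `ι : Y ⟶ X` a morphism from a quasi-compact scheme, `(U i)` an
open cover of `X`, and `b i ∈ Γ(Y, ⊤)`, `c i ∈ Γ(X, U i)` with `ι^♯(c i) * b i = 1` on `ι⁻¹(U i)`. Then the `b i`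
generate the unit ideal of `Γ(Y, ⊤)`.

This is the algebraic heart of: for `L` ample on `X` universally closed over an affine base, the non-vanishing locus
`X_s` of every global section `s` of `L` is affine.
-/

set_option autoImplicit false
universe u

open CategoryTheory CategoryTheory.Limits AlgebraicGeometry TopologicalSpace Opposite

namespace Groth.Agent.H18.UC

theorem span_eq_top_of_universallyClosed {X S Y : Scheme.{u}} [IsAffine S] (f : X ⟶ S)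
    [UniversallyClosed f] (ι : Y ⟶ X) [CompactSpace Y] {I : Type*} (U : I → X.Opens)
    (hU : ∀ x : X, ∃ i, x ∈ U i) (b : I → Γ(Y, ⊤)) (c : ∀ i, Γ(X, U i))
    (hbc : ∀ i, ι.app (U i) (c i) *
      Y.presheaf.map (homOfLE (le_top : ι ⁻¹ᵁ U i ≤ ⊤)).op (b i) = 1) :
    Ideal.span (Set.range b) = ⊤ := by
  by_contra hne
  obtain ⟨𝔪, h𝔪, hle⟩ := Ideal.exists_le_maximal _ hne
  let T : Scheme.{u} := Spec Γ(Y, ⊤)
  let j : Y ⟶ T := Y.toSpecΓ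
  haveI : IsIso S.toSpecΓ := inferInstance
  let h : T ⟶ S := Spec.map (ι ≫ f).appTop ≫ inv S.toSpecΓ
  have hjh : j ≫ h = ι ≫ f := by
    change Y.toSpecΓ ≫ Spec.map (ι ≫ f).appTop ≫ inv S.toSpecΓ = _
    rw [← Category.assoc, ← Scheme.toSpecΓ_naturality, Category.assoc, IsIso.hom_inv_id,
      Category.comp_id]
  let P := pullback f h
  let p1 : P ⟶ X := pullback.fst f h
  let p2 : P ⟶ T := pullback.snd f h
  let γ : Y ⟶ P := pullback.lift ι j hjh.symm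
  have hγ1 : γ ≫ p1 = ι := pullback.lift_fst _ _ _
  have hγ2 : γ ≫ p2 = j := pullback.lift_snd _ _ _
  let β : I → Γ(T, ⊤) := fun i => (Scheme.ΓSpecIso Γ(Y, ⊤)).inv (b i)
  let g : ∀ i, Γ(P, p1 ⁻¹ᵁ U i) := fun i =>
    p1.app (U i) (c i) * P.presheaf.map (homOfLE (le_top : p1 ⁻¹ᵁ U i ≤ ⊤)).op (p2.appTop (β i)) - 1
  -- the graph avoids the non-vanishing loci of the `g i`
  have claim1 : ∀ i (y : Y), γ y ∉ P.basicOpen (g i) := by
    intro i y hy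
    have hyN : γ y ∈ p1 ⁻¹ᵁ U i := P.basicOpen_le _ hy
    have e : ι ⁻¹ᵁ U i ≤ γ ⁻¹ᵁ (p1 ⁻¹ᵁ U i) := by
      intro y' hy'
      change p1 (γ y') ∈ U i
      rw [← Scheme.Hom.comp_apply, hγ1]
      exact hy'
    have hyV : y ∈ ι ⁻¹ᵁ U i := by
      change ι y ∈ U i
      rw [← hγ1]
      exact hyN
    have k1 : γ.appLE (p1 ⁻¹ᵁ U i) (ι ⁻¹ᵁ U i) e (p1.app (U i) (c i)) = ι.app (U i) (c i) := by
      have := Scheme.Hom.comp_appLE γ p1 (U i) (ι ⁻¹ᵁ U i) e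
      have h2 : (γ ≫ p1).appLE (U i) (ι ⁻¹ᵁ U i) e = ι.app (U i) := by
        have : ∀ (φ : Y ⟶ X) (hφ : φ = ι) (e' : ι ⁻¹ᵁ U i ≤ φ ⁻¹ᵁ U i),
            φ.appLE (U i) (ι ⁻¹ᵁ U i) e' = ι.app (U i) := by
          rintro φ rfl e'
          exact Scheme.Hom.appLE_eq_app _
        exact this _ hγ1 e
      rw [← h2, this]
      rfl
    have k2 : γ.appLE (p1 ⁻¹ᵁ U i) (ι ⁻¹ᵁ U i) e
        (P.presheaf.map (homOfLE (le_top : p1 ⁻¹ᵁ U i ≤ ⊤)).op (p2.appTop (β i))) =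
        Y.presheaf.map (homOfLE (le_top : ι ⁻¹ᵁ U i ≤ ⊤)).op (b i) := by
      have h1 : P.presheaf.map (homOfLE (le_top : p1 ⁻¹ᵁ U i ≤ ⊤)).op ≫
          γ.appLE (p1 ⁻¹ᵁ U i) (ι ⁻¹ᵁ U i) e = γ.appLE ⊤ (ι ⁻¹ᵁ U i) le_top :=
        Scheme.Hom.map_appLE _ _ _
      have h2 : p2.appTop ≫ γ.appLE ⊤ (ι ⁻¹ᵁ U i) le_top =
          (γ ≫ p2).appLE ⊤ (ι ⁻¹ᵁ U i) le_top := (Scheme.Hom.comp_appLE γ p2 ⊤ _ le_top).symm
      have h3 : (γ ≫ p2).appLE ⊤ (ι ⁻¹ᵁ U i) le_top = j.appLE ⊤ (ι ⁻¹ᵁ U i) le_top := by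
        have : ∀ (φ : Y ⟶ T) (hφ : φ = j), φ.appLE ⊤ (ι ⁻¹ᵁ U i) le_top =
            j.appLE ⊤ (ι ⁻¹ᵁ U i) le_top := by
          rintro φ rfl; rfl
        exact this _ hγ2
      have h4 : j.appTop (β i) = b i := by
        change (Y.toSpecΓ.appTop) ((Scheme.ΓSpecIso Γ(Y, ⊤)).inv (b i)) = b i
        rw [Scheme.toSpecΓ_appTop]
        exact Iso.inv_hom_id_apply (C := CommRingCat) _ _
      calc γ.appLE (p1 ⁻¹ᵁ U i) (ι ⁻¹ᵁ U i) e
            (P.presheaf.map (homOfLE (le_top : p1 ⁻¹ᵁ U i ≤ ⊤)).op (p2.appTop (β i)))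
          = (p2.appTop ≫ (P.presheaf.map (homOfLE (le_top : p1 ⁻¹ᵁ U i ≤ ⊤)).op ≫
              γ.appLE (p1 ⁻¹ᵁ U i) (ι ⁻¹ᵁ U i) e)) (β i) := rfl
        _ = j.appLE ⊤ (ι ⁻¹ᵁ U i) le_top (β i) := by rw [h1, h2, h3]
        _ = Y.presheaf.map (homOfLE (le_top : ι ⁻¹ᵁ U i ≤ ⊤)).op (j.appTop (β i)) := rfl
        _ = _ := by rw [h4]
    have key : γ.appLE (p1 ⁻¹ᵁ U i) (ι ⁻¹ᵁ U i) e (g i) = 0 := by
      simp only [g, map_sub, map_mul, map_one]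
      rw [k1, k2, hbc, sub_self]
    have hmem : y ∈ Y.basicOpen (γ.appLE (p1 ⁻¹ᵁ U i) (ι ⁻¹ᵁ U i) e (g i)) := by
      rw [Scheme.basicOpen_appLE]
      exact ⟨hyV, hy⟩
    rw [key, Scheme.basicOpen_zero] at hmem
    exact hmem
  -- the closed set
  let W : P.Opens := ⨆ i, P.basicOpen (g i)
  have hclosed : IsClosed (p2 '' (W : Set P)ᶜ) :=
    p2.isClosedMap _ W.isOpen.isClosed_compl
  have hrange : Set.range j ⊆ p2 '' (W : Set P)ᶜ := by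
    rintro _ ⟨y, rfl⟩
    refine ⟨γ y, ?_, ?_⟩
    · intro hmem
      obtain ⟨i, hi⟩ := Opens.mem_iSup.1 hmem
      exact claim1 i y hi
    · rw [← Scheme.Hom.comp_apply, hγ2]
  have hdense : DenseRange j := (inferInstance : IsDominant j).denseRange
  have huniv : p2 '' (W : Set P)ᶜ = Set.univ := by
    apply Set.eq_univ_of_univ_subset
    rw [← hdense.closure_range]
    exact hclosed.closure_subset_iff.2 hrange
  let t₀ : T := (⟨𝔪, h𝔪.isPrime⟩ : PrimeSpectrum Γ(Y, ⊤))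
  obtain ⟨z, hzW, hz⟩ : t₀ ∈ p2 '' (W : Set P)ᶜ := huniv ▸ Set.mem_univ _
  obtain ⟨i, hi⟩ := hU (p1 z)
  have hzN : z ∈ p1 ⁻¹ᵁ U i := hi
  set ρ := P.presheaf.map (homOfLE (le_top : p1 ⁻¹ᵁ U i ≤ ⊤)).op (p2.appTop (β i)) with hρ
  have h1 : (1 : Γ(P, p1 ⁻¹ᵁ U i)) = p1.app (U i) (c i) * ρ + (-1) * g i := by
    simp only [g]
    ring
  have h2 : z ∈ P.basicOpen (1 : Γ(P, p1 ⁻¹ᵁ U i)) := by
    rw [Scheme.basicOpen_of_isUnit _ isUnit_one]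
    exact hzN
  rw [h1] at h2
  rcases P.basicOpen_add_le _ _ h2 with h3 | h3
  · rw [Scheme.basicOpen_mul] at h3
    have h4 : z ∈ P.basicOpen ρ := h3.2
    rw [hρ, Scheme.basicOpen_res] at h4
    have h5 : z ∈ P.basicOpen (p2.appTop (β i)) := h4.2
    rw [← Scheme.preimage_basicOpen_top] at h5
    have h6 : p2 z ∈ T.basicOpen (β i) := h5
    rw [hz] at h6
    have h7 : T.basicOpen (β i) = PrimeSpectrum.basicOpen (b i) :=
      basicOpen_eq_of_affine (b i)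
    rw [h7] at h6
    exact h6 (hle (Ideal.subset_span ⟨i, rfl⟩))
  · rw [Scheme.basicOpen_mul] at h3
    exact hzW (Opens.mem_iSup.2 ⟨i, h3.2⟩)

end Groth.Agent.H18.UC
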